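import Cfsg.Agent.R08.FrameAGroup
import Cfsg.Agent.R08.FrameAWeights

/-!
# EH3, row `U₄(3)`: `PSU(4, 3)` does not act faithfully on `2^12` (helper586)

`U : UData S` (an elementary abelian `3⁴` in `S` with five elements normalising it): the hyperplanes of `3⁴` fall into
orbits of lengths 10, 15, 15 under the normaliser, so a faithful module over `F₂` has at least `4^7` elements.
-/

set_option autoImplicit false

namespace Cfsg.Agent.Omega.EH3.UFour.NoTriv

open Cfsg.Agent.R08.FrameAData Cfsg.Agent.R08.FrameAWeights Cfsg.Agent.R08.FrameAGroup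

/-- the elementary abelian group `3⁴`, additively -/
abbrev T := Fin 4 → ZMod 3

/-- the elementary abelian group `3⁴` -/
abbrev P := Multiplicative T

/-! ### Functionals and hyperplanes -/

/-- the hyperplane of a functional -/
def kr (f : T) : Subgroup P where
  carrier := {p | f ⬝ᵥ (p.toAdd) = 0}
  one_mem' := dotProduct_zero f
  mul_mem' := fun {a b} ha hb => by
    show f ⬝ᵥ (a.toAdd + b.toAdd) = 0
    rw [dotProduct_add, show f ⬝ᵥ a.toAdd = 0 from ha, show f ⬝ᵥ b.toAdd = 0 from hb, add_zero]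
  inv_mem' := fun {a} ha => by
    show f ⬝ᵥ (-a.toAdd) = 0
    rw [dotProduct_neg, show f ⬝ᵥ a.toAdd = 0 from ha, neg_zero]

theorem mem_kr {f : T} {p : P} : p ∈ kr f ↔ f ⬝ᵥ p.toAdd = 0 := Iff.rfl

theorem zmod_sq : ∀ x : ZMod 3, x ≠ 0 → x * x = 1 := by decide
theorem zmod_cases : ∀ x : ZMod 3, x = 0 ∨ x = 1 ∨ x = -1 := by decide

/-- functionals with the same hyperplane agree up to sign -/
theorem eq_or_neg {f f' : T} (hf : f ≠ 0) (hf' : f' ≠ 0) (h : kr f ≤ kr f') : f' = f ∨ f' = -f := by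
  obtain ⟨i, hi⟩ := Function.ne_iff.1 hf
  have h1 : ∀ j, f' j * f i = f' i * f j := by
    intro j
    have h2 : Multiplicative.ofAdd (Pi.single j (f i) - Pi.single i (f j)) ∈ kr f := by
      rw [mem_kr, toAdd_ofAdd, dotProduct_sub, dotProduct_single, dotProduct_single, mul_comm, sub_self]
    have h3 := h h2
    rw [mem_kr, toAdd_ofAdd, dotProduct_sub, dotProduct_single, dotProduct_single] at h3
    exact sub_eq_zero.1 h3
  have h2 : ∀ j, f' j = (f' i * f i) * f j := by
    intro j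
    calc f' j = f' j * (f i * f i) := by rw [zmod_sq _ hi, mul_one]
      _ = (f' j * f i) * f i := by ring
      _ = _ := by rw [h1 j]; ring
  rcases zmod_cases (f' i * f i) with h0 | h0 | h0
  · exfalso
    apply hf'
    funext j
    rw [h2 j, h0, zero_mul]; rfl
  · left
    funext j
    rw [h2 j, h0, one_mul]
  · right
    funext j
    rw [h2 j, h0, neg_one_mul]; rfl

theorem index_kr {f : T} (hf : f ≠ 0) : (kr f).index = 3 := by
  obtain ⟨i, hi⟩ := Function.ne_iff.1 hf
  let g : Fn P :=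
    { toFun := fun p => Multiplicative.ofAdd (f ⬝ᵥ p.toAdd)
      map_one' := congrArg Multiplicative.ofAdd (dotProduct_zero f)
      map_mul' := fun a b => congrArg Multiplicative.ofAdd (dotProduct_add f a.toAdd b.toAdd) }
  have h1 : g.ker = kr f := by
    ext p
    exact Iff.rfl
  rw [← h1]
  refine index_ker (p := Multiplicative.ofAdd (Pi.single i 1)) fun h => hi ?_
  have h2 : f ⬝ᵥ (Pi.single i 1) = 0 := h
  rw [dotProduct_single, mul_one] at h2
  exact h2

theorem cube (p : P) : p ^ 3 = 1 := by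
  have : ∀ x : ZMod 3, 3 • x = 0 := by decide
  apply Multiplicative.toAdd.injective
  rw [toAdd_pow, toAdd_one]
  funext i
  exact this _

/-- every hyperplane comes from a functional -/
theorem exists_kr {W : Subgroup P} (hW : W.index = 3) : ∃ f : T, f ≠ 0 ∧ W = kr f := by
  obtain ⟨b, hb⟩ : ∃ b : P, b ∉ W := by
    by_contra h
    push Not at h
    have : W = ⊤ := (Subgroup.eq_top_iff' W).2 h
    rw [this, Subgroup.index_top] at hW
    norm_num at hW
  have hb1 : (QuotientGroup.mk b : P ⧸ W) ≠ 1 := fun h => hb ((QuotientGroup.eq_one_iff b).1 h)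
  have : Fintype (P ⧸ W) := Fintype.ofFinite _
  obtain ⟨g, hg⟩ := exists_fn (P := P ⧸ W) (fun p => by
    obtain ⟨q, rfl⟩ := QuotientGroup.mk_surjective p
    rw [← QuotientGroup.mk_pow, cube, QuotientGroup.mk_one]) hb1
  let f : Fn P := g.comp (QuotientGroup.mk' W)
  have hfb : f b ≠ 1 := by
    show g (QuotientGroup.mk b) ≠ 1
    rw [hg]; decide
  have hle : W ≤ f.ker := by
    intro w hw
    rw [MonoidHom.mem_ker]
    show g (QuotientGroup.mk w) = 1
    rw [(QuotientGroup.eq_one_iff w).2 hw, map_one]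
  have hWf : W = f.ker := by
    refine Subgroup.eq_of_le_of_card_ge hle ?_
    have h1 := W.card_mul_index
    have h2 := f.ker.card_mul_index
    rw [hW] at h1
    rw [index_ker hfb] at h2
    omega
  let F : T := fun i => (f (Multiplicative.ofAdd (Pi.single i 1))).toAdd
  let f1 : T →+ ZMod 3 :=
    { toFun := fun a => (f (Multiplicative.ofAdd a)).toAdd
      map_zero' := by rw [ofAdd_zero, map_one, toAdd_one]
      map_add' := fun a b => by rw [ofAdd_add, map_mul, toAdd_mul] }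
  let f2 : T →+ ZMod 3 :=
    { toFun := fun a => F ⬝ᵥ a
      map_zero' := dotProduct_zero F
      map_add' := fun a b => dotProduct_add F a b }
  have h12 : f1 = f2 := by
    refine hom_ext f1 f2 fun i => ?_
    show (f (Multiplicative.ofAdd (Pi.single i 1))).toAdd = F ⬝ᵥ (Pi.single i 1)
    rw [dotProduct_single, mul_one]
  have h3 : ∀ p : P, (f p).toAdd = F ⬝ᵥ p.toAdd := fun p => DFunLike.congr_fun h12 p.toAdd
  have hk : W = kr F := by
    rw [hWf]
    ext p
    rw [MonoidHom.mem_ker, mem_kr, ← h3]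
    exact Iff.rfl
  refine ⟨F, ?_, hk⟩
  rintro h0
  apply hb
  rw [hk, mem_kr, h0, zero_dotProduct]

/-! ### The dual maps -/

/-- dual of `gh` -/
def dh (f : T) : T := ![f 2, 2 * f 1 + 2 * f 2, f 0 + 2 * f 1 + 2 * f 2 + f 3, 2 * f 2 + f 3]
/-- dual of `gd` -/
def dd (f : T) : T := ![2 * f 0, f 3, 2 * f 2, 2 * f 1]
/-- dual of `gw` -/
def dw (f : T) : T := ![f 2, f 1, f 0, 2 * f 3]
/-- dual of `g1` -/
def d1 (f : T) : T := ![f 0, f 1, f 0 + f 2 + f 3, 2 * f 0 + f 3]
/-- dual of `g2` -/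
def d2 (f : T) : T := ![f 0, f 0 + f 1, f 0 + 2 * f 1 + f 2, f 3]

theorem dot_h (f a : T) : dh f ⬝ᵥ a = f ⬝ᵥ gh a := by
  simp [dotProduct, Fin.sum_univ_four, gh, dh]; ring
theorem dot_d (f a : T) : dd f ⬝ᵥ a = f ⬝ᵥ gd a := by
  simp [dotProduct, Fin.sum_univ_four, gd, dd]; ring
theorem dot_w (f a : T) : dw f ⬝ᵥ a = f ⬝ᵥ gw a := by
  simp [dotProduct, Fin.sum_univ_four, gw, dw]; ring
theorem dot_1 (f a : T) : d1 f ⬝ᵥ a = f ⬝ᵥ g1 a := by
  simp [dotProduct, Fin.sum_univ_four, g1, d1]; ring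
theorem dot_2 (f a : T) : d2 f ⬝ᵥ a = f ⬝ᵥ g2 a := by
  simp [dotProduct, Fin.sum_univ_four, g2, d2]; ring

/-- eight words -/
def ws : Fin 8 → T → T :=
  ![id, dh, dh ∘ dh, dh ∘ dh ∘ dh, dw ∘ dh ∘ dw, d1 ∘ dw ∘ dd, d2 ∘ d2 ∘ dd, d1 ∘ dw ∘ dd ∘ dh]

theorem ws_sep : ∀ f : T, f ≠ 0 → ∃ i0 : Fin 8, ∀ i : Fin 8, i ≠ i0 → ∀ j : Fin 8, j ≠ i0 → i ≠ j →
    ws i f ≠ ws j f ∧ ws i f ≠ -ws j f := by
  decide +kernel

/-! ### The action -/

section act

variable {S V : Type*} [Group S] [AddCommGroup V] [DistribMulAction S V]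

/-- `3⁴` as a homomorphism -/
def tHom (U : UData S) : P →* S where
  toFun p := U.t p.toAdd
  map_one' := by
    have h := U.t_add 0 0
    rw [add_zero] at h
    exact left_eq_mul.1 h
  map_mul' a b := U.t_add _ _

/-- `3⁴` acts on `V` -/
@[reducible] def act (U : UData S) : DistribMulAction P V := DistribMulAction.compHom V (tHom U)

/-- the weight functionals are permuted by the elements of `S` normalising `3⁴` -/
theorem comp_step (U : UData S) {y : S} {g : T → T} (hg : ∀ a b, g (a + b) = g a + g b)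
    (hy : ∀ a, y * U.t a * y⁻¹ = U.t (g a)) {f f' : T} (hd : ∀ a, f' ⬝ᵥ a = f ⬝ᵥ g a) :
    letI := act (V := V) U
    Comp V (kr f) ≠ ⊥ → Comp V (kr f') ≠ ⊥ := by
  let _ := act (V := V) U
  intro h h'
  apply h
  rw [AddSubgroup.eq_bot_iff_forall] at h' ⊢
  intro v hv
  have hs : ∀ a : T, U.t a * y⁻¹ = y⁻¹ * U.t (g a) := by
    intro a
    rw [← hy]; group
  have hsm : ∀ p : P, p • (y⁻¹ • v) = y⁻¹ • ((Multiplicative.ofAdd (g p.toAdd)) • v) := by
    intro p
    show U.t p.toAdd • y⁻¹ • v = y⁻¹ • U.t (g p.toAdd) • v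
    rw [smul_smul, smul_smul, hs]
  have h1 : y⁻¹ • v ∈ Comp V (kr f') := by
    refine ⟨fun p hp => ?_, fun p hp => ?_⟩
    · rw [hsm, hv.1]
      rw [mem_kr] at hp ⊢
      rw [toAdd_ofAdd, ← hd]
      exact hp
    · rw [hsm, hsm, ← smul_add, ← smul_add, toAdd_mul, hg, ofAdd_add, hv.2, smul_zero]
      intro h2
      apply hp
      rw [mem_kr] at h2 ⊢
      rw [hd]
      exact h2
  exact (smul_eq_zero_iff_eq y⁻¹).1 (h' _ h1)

theorem four_le_card {P : Type*} [CommGroup P] [DistribMulAction P V] [Finite V] (hV : ∀ v : V, v + v = 0)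
    (h3 : ∀ p : P, p ^ 3 = 1) {W : Subgroup P} (hW : W.index = 3) (hW0 : Comp V W ≠ ⊥) :
    4 ≤ Nat.card (Comp V W) := by
  obtain ⟨v, hv, hv0⟩ : ∃ v ∈ Comp V W, v ≠ 0 := by
    by_contra h
    push Not at h
    exact hW0 ((AddSubgroup.eq_bot_iff_forall _).2 h)
  obtain ⟨b, hb⟩ : ∃ b : P, b ∉ W := by
    by_contra h
    push Not at h
    have : W = ⊤ := (Subgroup.eq_top_iff' W).2 h
    rw [this, Subgroup.index_top] at hW
    norm_num at hW
  have h3' : b * b * b = 1 := by have := h3 b; rwa [pow_succ, pow_two] at this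
  have hst : ∀ p : P, p • v ∈ Comp V W := by
    intro p
    refine ⟨fun w hw => ?_, fun q hq => ?_⟩
    · rw [smul_smul, mul_comm, mul_smul, hv.1 w hw]
    · have : p • v + q • p • v + (q * q) • p • v = p • (v + q • v + (q * q) • v) := by
        simp only [smul_add, smul_smul]
        rw [mul_comm q p, mul_comm (q * q) p]
      rw [this, hv.2 q hq, smul_zero]
  have hne : ∀ p : P, p • v ≠ 0 := fun p h => hv0 ((smul_eq_zero_iff_eq p).1 h)
  have h0 := hv.2 b hb
  have hb1 : b • v ≠ v := by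
    intro h
    rw [mul_smul, h, h, hV, zero_add] at h0
    exact hv0 h0
  have hb2 : (b * b) • v ≠ v := by
    intro h
    apply hb1
    have : b • ((b * b) • v) = b • v := by rw [h]
    rw [smul_smul, ← mul_assoc, h3', one_smul] at this
    exact this.symm
  have hb3 : (b * b) • v ≠ b • v := by
    intro h
    rw [mul_smul] at h
    exact hb1 (MulAction.injective b h)
  let f : Fin 4 → Comp V W := ![0, ⟨v, hv⟩, ⟨b • v, hst b⟩, ⟨(b * b) • v, hst _⟩]
  have hinj : Function.Injective f := by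
    have e0 : (f 0 : V) = 0 := rfl
    have e1 : (f 1 : V) = v := rfl
    have e2 : (f 2 : V) = b • v := rfl
    have e3 : (f 3 : V) = (b * b) • v := rfl
    intro i j hij
    have hij' : (f i : V) = f j := congrArg Subtype.val hij
    fin_cases i <;> fin_cases j <;> first | rfl | exfalso
    · exact hv0 (e1.symm.trans (hij'.symm.trans e0))
    · exact hne b (e2.symm.trans (hij'.symm.trans e0))
    · exact hne _ (e3.symm.trans (hij'.symm.trans e0))
    · exact hv0 (e1.symm.trans (hij'.trans e0))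
    · exact hb1 (e2.symm.trans (hij'.symm.trans e1))
    · exact hb2 (e3.symm.trans (hij'.symm.trans e1))
    · exact hne b (e2.symm.trans (hij'.trans e0))
    · exact hb1 (e2.symm.trans (hij'.trans e1))
    · exact hb3 (e3.symm.trans (hij'.symm.trans e2))
    · exact hne _ (e3.symm.trans (hij'.trans e0))
    · exact hb2 (e3.symm.trans (hij'.trans e1))
    · exact hb3 (e3.symm.trans (hij'.trans e2))
  have := Nat.card_le_card_of_injective f hinj
  rwa [Nat.card_eq_fintype_card, Fintype.card_fin] at this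

theorem pow_le_card {P : Type*} [CommGroup P] [Finite P] [DistribMulAction P V] [Finite V] (hV : ∀ v : V, v + v = 0)
    (h3 : ∀ p : P, p ^ 3 = 1) {ι : Type*} [Fintype ι] (W : ι → Subgroup P) (hW : ∀ i, (W i).index = 3)
    (hW0 : ∀ i, Comp V (W i) ≠ ⊥) (hinj : Function.Injective W) : 4 ^ Fintype.card ι ≤ Nat.card V := by
  have : Fintype P := Fintype.ofFinite _
  have hin : Function.Injective (fun u : (i : ι) → Comp V (W i) => ∑ i, (u i : V)) := by
    intro u v huv
    have huv' : ∑ i, (u i : V) = ∑ i, (v i : V) := huv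
    have h1 : ∑ i, ((u i : V) - v i) = 0 := by
      rw [Finset.sum_sub_distrib, huv', sub_self]
    funext i
    apply Subtype.ext
    have := eq_zero_of_sum h3 hV W hW hinj (fun i => (u i : V) - v i)
      (fun i => (Comp V (W i)).sub_mem (u i).2 (v i).2) h1 i
    exact sub_eq_zero.1 this
  have h1 := Nat.card_le_card_of_injective _ hin
  rw [Nat.card_pi] at h1
  refine le_trans ?_ h1
  rw [← Finset.card_univ, ← Finset.prod_const]
  exact Finset.prod_le_prod' fun i _ => four_le_card hV h3 (hW i) (hW0 i)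

theorem gh_add (a b : T) : gh (a + b) = gh a + gh b := Cfsg.Agent.R08.FrameAData.gh_add a b

/-- **`PSU(4, 3)` does not act faithfully on `2^12`** -/
theorem false_of_uData [Finite V] (U : UData S) (hV : ∀ v : V, v + v = 0)
    (hf : ∀ g : S, (∀ v : V, g • v = v) → g = 1) (hc : Nat.card V ≤ 4096) : False := by
  let _ := act (V := V) U
  have hsm : ∀ (p : P) (v : V), p • v = U.t p.toAdd • v := fun _ _ => rfl
  -- there is a weight
  obtain ⟨f, hf0, hfc⟩ : ∃ f : T, f ≠ 0 ∧ Comp V (kr f) ≠ ⊥ := by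
    by_contra hno
    push Not at hno
    have h1 : Fix P V = ⊤ := by
      refine eq_top_of_comp cube hV (Fix P V) le_rfl fun W hW => ?_
      obtain ⟨f, hf0, rfl⟩ := exists_kr hW
      rw [hno f hf0]
      exact bot_le
    have h2 := U.inj (Pi.single 0 1) (hf _ fun v => by
      have h3 : v ∈ Fix P V := by rw [h1]; trivial
      exact h3 (Multiplicative.ofAdd (Pi.single 0 1)))
    have h3 := congrFun h2 0
    rw [Pi.single_eq_same] at h3
    exact absurd h3 (by decide)
  -- the words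
  have sh : ∀ f : T, f ≠ 0 ∧ Comp V (kr f) ≠ ⊥ → dh f ≠ 0 ∧ Comp V (kr (dh f)) ≠ ⊥ := by
    intro f h
    refine ⟨?_, comp_step U gh_add U.ch (dot_h f) h.2⟩
    have : ∀ f : T, f ≠ 0 → dh f ≠ 0 := by decide +kernel
    exact this f h.1
  have sd : ∀ f : T, f ≠ 0 ∧ Comp V (kr f) ≠ ⊥ → dd f ≠ 0 ∧ Comp V (kr (dd f)) ≠ ⊥ := by
    intro f h
    refine ⟨?_, comp_step U gd_add U.cd (dot_d f) h.2⟩
    have : ∀ f : T, f ≠ 0 → dd f ≠ 0 := by decide +kernel
    exact this f h.1
  have sw : ∀ f : T, f ≠ 0 ∧ Comp V (kr f) ≠ ⊥ → dw f ≠ 0 ∧ Comp V (kr (dw f)) ≠ ⊥ := by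
    intro f h
    refine ⟨?_, comp_step U gw_add U.cw (dot_w f) h.2⟩
    have : ∀ f : T, f ≠ 0 → dw f ≠ 0 := by decide +kernel
    exact this f h.1
  have s1 : ∀ f : T, f ≠ 0 ∧ Comp V (kr f) ≠ ⊥ → d1 f ≠ 0 ∧ Comp V (kr (d1 f)) ≠ ⊥ := by
    intro f h
    refine ⟨?_, comp_step U g1_add U.c1 (dot_1 f) h.2⟩
    have : ∀ f : T, f ≠ 0 → d1 f ≠ 0 := by decide +kernel
    exact this f h.1
  have s2 : ∀ f : T, f ≠ 0 ∧ Comp V (kr f) ≠ ⊥ → d2 f ≠ 0 ∧ Comp V (kr (d2 f)) ≠ ⊥ := by
    intro f h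
    refine ⟨?_, comp_step U g2_add U.c2 (dot_2 f) h.2⟩
    have : ∀ f : T, f ≠ 0 → d2 f ≠ 0 := by decide +kernel
    exact this f h.1
  have hws : ∀ i : Fin 8, ws i f ≠ 0 ∧ Comp V (kr (ws i f)) ≠ ⊥ := by
    have h0 : f ≠ 0 ∧ Comp V (kr f) ≠ ⊥ := ⟨hf0, hfc⟩
    intro i
    fin_cases i
    · exact h0
    · exact sh _ h0
    · exact sh _ (sh _ h0)
    · exact sh _ (sh _ (sh _ h0))
    · exact sw _ (sh _ (sw _ h0))
    · exact s1 _ (sw _ (sd _ h0))
    · exact s2 _ (s2 _ (sd _ h0))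
    · exact s1 _ (sw _ (sd _ (sh _ h0)))
  obtain ⟨i0, hi0⟩ := ws_sep f hf0
  have h7 := pow_le_card (V := V) hV cube (fun i : {i : Fin 8 // i ≠ i0} => kr (ws i.1 f))
    (fun i => index_kr (hws i.1).1) (fun i => (hws i.1).2) (by
      intro i j hij
      by_contra hne
      have hne' : i.1 ≠ j.1 := fun h => hne (Subtype.ext h)
      obtain ⟨h1, h2⟩ := hi0 i.1 i.2 j.1 j.2 hne'
      rcases eq_or_neg (hws j.1).1 (hws i.1).1 (le_of_eq (show kr (ws i.1 f) = kr (ws j.1 f) from hij).symm) with h | h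
      · exact h1 h
      · exact h2 h)
  have h8 : Fintype.card {i : Fin 8 // i ≠ i0} = 7 := by
    rw [Fintype.card_subtype_compl, Fintype.card_fin, Fintype.card_subtype_eq]
  rw [h8] at h7
  have : (4 : ℕ) ^ 7 ≤ 4096 := h7.trans hc
  norm_num at this

end act

end Cfsg.Agent.Omega.EH3.UFour.NoTriv
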