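import Cfsg.Agent.Omega.EH3.SitIrr
import Cfsg.Agent.Omega.EH3.UFour.Kill
import Cfsg.Agent.Omega.EH3.UFour.NoTriv
import Cfsg.Agent.R08.FrameA
import Cfsg.Agent.R08.ModFrame
import Cfsg.Agent.LargeExtra.Nine.ToCent
import Cfsg.Agent.MinSimple.Basic

/-!
# EH3: the row `U₄(3)` in `G` (helper586)

In the situation [2d] with `w = 6` the quasisimple normal subgroup `L` of `H` is not of type `U₄(3)`:

* `C_H(L) = 1` is impossible (`NoTriv`: `PSU(4,3)` does not act faithfully on `2^12`);
* `|C_H(L)| = 3`: `C_G(z)` has the `3·U₄(3)`-frame `R08.FrameData`, and `Kill.false_of_pair` applies.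

`rowG` : the socket `u43` of `EH3.Main.Inputs`.
-/

set_option autoImplicit false

namespace Cfsg.Agent.Omega.EH3.UFour.Row

open Cfsg Subgroup Cfsg.Agent.Co2Type.Quad Cfsg.Agent.R08.Frame Cfsg.Agent.R08.FrameAData
open Cfsg.Agent.SporRec.GF4 Cfsg.Agent.R08.ModFrame Cfsg.Agent.SporadicStructure.FieldNine
open Cfsg.Agent.Omega.Frame (Ctx Cls All)
open Cfsg.Agent.Omega.EH3.Main

universe u

/-! ### Preimages -/

section abs

variable {C H : Type*} [Group C] [Group H]

theorem card_comap [Finite C] {f : C →* H} (hf : Function.Surjective f) (K : Subgroup H) :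
    Nat.card (K.comap f) = Nat.card K * Nat.card f.ker := by
  have hH : Finite H := Finite.of_surjective f hf
  have h2 : (K.comap f).index = K.index := index_comap_of_surjective _ hf
  have h3 := (K.comap f).card_mul_index
  have h4 := K.card_mul_index
  have h5 := f.ker.card_mul_index
  have h6 : f.ker.index = Nat.card H := by
    rw [index_ker, MonoidHom.range_eq_top.2 hf, card_top]
  rw [h6, ← h4, ← h3, h2] at h5
  have h7 : 0 < K.index := Nat.pos_of_ne_zero index_ne_zero_of_finite
  apply Nat.eq_of_mul_eq_mul_right h7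
  rw [← h5]
  ring

theorem cent_subgroupOf (L : Subgroup H) : (centralizer (L : Set H)).subgroupOf L = center L := by
  ext x
  rw [mem_subgroupOf, mem_centralizer_iff, mem_center_iff]
  constructor
  · intro h l
    exact Subtype.ext (h l l.2)
  · intro h l hl
    exact congrArg Subtype.val (h ⟨l, hl⟩)

/-- `M / N ≅ L / Z(L)` for the preimages `N` of `C_H(L)` and `M` of `L C_H(L)` -/
theorem exists_equiv {f : C →* H} (hf : Function.Surjective f) (L : Subgroup H) [hL : L.Normal]
    [((centralizer (L : Set H)).comap f).Normal] :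
    Nonempty (↥((L ⊔ centralizer (L : Set H)).comap f) ⧸
      ((centralizer (L : Set H)).comap f).subgroupOf ((L ⊔ centralizer (L : Set H)).comap f) ≃* L ⧸ center L) := by
  have hCn : (centralizer (L : Set H)).Normal := inferInstance
  let K := centralizer (L : Set H)
  let g : ↥((L ⊔ K).comap f) →* ↥(L ⊔ K) := f.subgroupComap (L ⊔ K)
  have hg : Function.Surjective g := by
    intro l
    obtain ⟨c, hc⟩ := hf l
    exact ⟨⟨c, by rw [mem_comap, hc]; exact l.2⟩, Subtype.ext hc⟩
  let g' : ↥((L ⊔ K).comap f) →* ↥(L ⊔ K) ⧸ K.subgroupOf (L ⊔ K) := (QuotientGroup.mk' _).comp g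
  have hg' : Function.Surjective g' := (QuotientGroup.mk'_surjective _).comp hg
  have hker : g'.ker = (K.comap f).subgroupOf ((L ⊔ K).comap f) := by
    ext c
    rw [MonoidHom.mem_ker, mem_subgroupOf]
    show (QuotientGroup.mk' _) (g c) = 1 ↔ _
    rw [QuotientGroup.mk'_apply, QuotientGroup.eq_one_iff, mem_subgroupOf]
    exact Iff.rfl
  refine ⟨(QuotientGroup.quotientMulEquivOfEq hker.symm).trans
    ((QuotientGroup.quotientKerEquivOfSurjective g' hg').trans
      ((QuotientGroup.quotientInfEquivProdNormalQuotient L K).symm.trans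
        (QuotientGroup.quotientMulEquivOfEq (cent_subgroupOf L))))⟩

end abs

/-! ### Coordinates -/

theorem frameData {G : Type*} [Group G] [Finite G] {Q : Subgroup G} {z : G} (h : Large Q z)
    {Q₀ N M : Subgroup (centralizer ({z} : Set G))} [Q₀.Normal] [N.Normal] [M.Normal]
    (hQ₀ : Q₀.map (centralizer ({z} : Set G)).subtype = Q) (hcard : Nat.card Q = 2 ^ 13)
    (hQN : Q₀ ≤ N) (hNM : N ≤ M) (hN : Nat.card N = 3 * Nat.card Q) (K : Type) [Field K] [Fintype K]
    (hK : Fintype.card K = 9) (e : M ⧸ N.subgroupOf M ≃* Cfsg.PSU 4 K 3)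
    (F : Type) [Field F] [Fintype F] (hF : Fintype.card F = 2 ^ 2) : Nonempty (FrameData h N M F) := by
  subst hQ₀
  have hQ' : Nat.card (Q₀.map (centralizer ({z} : Set G)).subtype) = Nat.card Q₀ :=
    (Nat.card_congr (Q₀.equivMapOfInjective _ (subtype_injective _)).toEquiv).symm
  rw [hQ'] at hcard hN
  exact Cfsg.Agent.R08.FrameA.frameData_of_large h hcard hQN hNM hN K hK e F hF

/-! ### The row -/

theorem card_V {G : Type*} [Group G] [Finite G] {Q : Subgroup G} {z : G} (h : Large Q z) (hcard : Nat.card Q = 2 ^ 13) : Nat.card h.V = 4096 := by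
  have h1 := h.card_eq
  rw [hcard] at h1
  omega

theorem card_F4 : Fintype.card F4 = 2 ^ 2 := by decide

/-- centralisers of involutions have characteristic 2 -/
theorem char2 {G : Type*} [Group G] (hG : IsCharacteristicTwoType G) : Kill.Char2 G := fun x hx hx1 =>
  Cfsg.Agent.MinSimple.Basic.char2_centralizer hG (by rw [pow_two]; exact hx) hx1

/-- **`C_H(L) ≠ 1`** -/
theorem not_one {G : Type u} [Group G] [Finite G] {Q A : Subgroup G} {z a : G} {w : ℕ} (S : Sit Q A z a w)
    (hQ : Nat.card Q = 2 ^ 13) {L : Subgroup S.pair.H} (hK : KFacts.IsUFourThree (L ⧸ center L))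
    (hc : Nat.card (centralizer (L : Set S.pair.H)) = 1) : False := by
  obtain ⟨K, _, _, hKc, ⟨e⟩⟩ := hK
  obtain ⟨ε⟩ := Cfsg.Agent.SporadicStructure.PsuMatch.psu_iso_of_card (F := K) (K := K9)
    (by rw [hKc, K9.card_K9']; norm_num) 4 3
  have hz : center L = ⊥ := by
    rw [← cent_subgroupOf, card_eq_one.1 hc, bot_subgroupOf]
  let e1 : Cfsg.PSU 4 K9 3 ≃* L := (ε.symm.trans e.symm).trans
    ((QuotientGroup.quotientMulEquivOfEq hz).trans QuotientGroup.quotientBot)
  let φ : Cfsg.PSU 4 K9 3 →* (S.pair.lz.V ≃ₗ[ZMod 2] S.pair.lz.V) :=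
    S.ρ.comp (L.subtype.comp e1.toMonoidHom)
  have hφ : Function.Injective φ :=
    (S.pair.H.subtype_injective.comp L.subtype_injective).comp e1.injective
  let _ : DistribMulAction (Cfsg.PSU 4 K9 3) S.pair.lz.V := DistribMulAction.compHom _ φ
  refine NoTriv.false_of_uData (uData : UData (Cfsg.PSU 4 K9 3)) S.pair.lz.add_self (fun g hg => ?_)
    (card_V S.pair.lz hQ).le
  apply hφ
  rw [map_one]
  ext v
  exact hg v

/-- **no `U₄(3)` in the situation [2d]** -/
theorem false_of_sit {G : Type u} [Group G] [Finite G] {Q A : Subgroup G} {z a : G} (S : Sit Q A z a 6)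
    {L : Subgroup S.pair.H} (hLn : L.Normal) (hLq : IsQuasisimple L)
    (h4 : S.X ⊓ centralizer (L : Set S.pair.H) = ⊥) (hK : KFacts.IsUFourThree (L ⧸ center L)) : False := by
  have hQ : Nat.card Q = 2 ^ 13 := by rw [S.card_Q]
  rcases SitIrr.card_cent S hLn hLq h4 with hc | hc
  · exact not_one S hQ hK hc
  obtain ⟨K, _, _, hKc, ⟨e⟩⟩ := hK
  have hQn : (Q.subgroupOf (centralizer ({z} : Set G))).Normal := Cfsg.Agent.LargeExtra.Nine.ToCent.normal S.pair.lz
  let f : centralizer ({z} : Set G) →* S.pair.H := S.pair.lz.act.rangeRestrict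
  have hf : Function.Surjective f := S.pair.lz.act.rangeRestrict_surjective
  have hker : f.ker = Q.subgroupOf (centralizer ({z} : Set G)) := by
    rw [← Cfsg.Agent.LargeExtra.Nine.ToCent.ker_act S.pair.lz]
    exact S.pair.lz.act.ker_rangeRestrict
  have hCn : (centralizer (L : Set S.pair.H)).Normal := inferInstance
  have hNn : ((centralizer (L : Set S.pair.H)).comap f).Normal := inferInstance
  have hMn : ((L ⊔ centralizer (L : Set S.pair.H)).comap f).Normal := inferInstance
  obtain ⟨e'⟩ := exists_equiv hf L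
  have hQN : Q.subgroupOf (centralizer ({z} : Set G)) ≤ (centralizer (L : Set S.pair.H)).comap f := by
    rw [← hker]
    intro c hc
    rw [mem_comap, MonoidHom.mem_ker.1 hc]
    exact one_mem _
  have hNM : (centralizer (L : Set S.pair.H)).comap f ≤ (L ⊔ centralizer (L : Set S.pair.H)).comap f :=
    comap_mono le_sup_right
  have hN : Nat.card ((centralizer (L : Set S.pair.H)).comap f) = 3 * Nat.card Q := by
    rw [card_comap hf, hc, hker, Cfsg.Agent.LargeExtra.Nine.ToCent.card_subgroupOf S.pair.lz]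
  obtain ⟨fd0⟩ := frameData S.pair.lz (Q₀ := Q.subgroupOf (centralizer ({z} : Set G)))
    (by rw [subgroupOf_map_subtype]; exact inf_eq_left.2 (Cfsg.Agent.LargeExtra.Nine.ToCent.le_cent S.pair.lz))
    hQ hQN hNM hN K hKc (e'.trans e) F4 card_F4
  obtain ⟨fd, hs⟩ := exists_std fd0 fun c hc => hNM (hQN (mem_subgroupOf.2 hc))
  exact Kill.false_of_pair S.pair fd hs hNn hMn (char2 S.ctx.char2) (by rw [S.card_D]; norm_num)

/-- **The row `U₄(3)`** -/
theorem rowG {K : Cls.{u}} : RowG K (fun X _ w => KFacts.IsUFourThree X ∧ w = 6) := by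
  rintro G _ _ _ Q A z a w S L hLn hLq _ h4 ⟨hK, rfl⟩
  exact (false_of_sit S hLn hLq h4 hK).elim

end Cfsg.Agent.Omega.EH3.UFour.Row
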