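import Cfsg.Agent.R08.ModTriv

/-!
# EH3, row U4(3): 2-groups of (semi)linear maps normalised by the stabiliser of an `R`-vector (helper586)

`W = F4 ^ 6` with the standard group `H` (order `3 |U4(3)|`), `u2 = (1,1,0,0,0,0)`, `J = H_{u2}`.

* `dich` : a `J`-invariant additive subgroup lies in `⟨e 0, e 1⟩` or contains `⟨e 2, ..., e 5⟩`;
* `main` : a 2-group of additive maps, each linear isometric or semilinear, preserving `R`, fixing `u2`, normalised by
  `J`, consists of `1` and the transvection `τ` with centre `u2`.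
-/

set_option autoImplicit false

namespace Cfsg.Agent.Omega.EH3.UFour.Mod

open Cfsg.Agent.SporRec.GF4 Cfsg.Agent.R08.ModVec Cfsg.Agent.R08.ModMono Cfsg.Agent.R08.Frame
open Cfsg.Agent.R08.ModOrb Cfsg.Agent.R08.ModIso Cfsg.Agent.R08.ModTau Cfsg.Agent.R08.ModSig
open Cfsg.Agent.R08.ModTriv

/-! ### fixed points modulo an invariant subgroup -/

theorem exists_fix_mod {V : Type*} [AddCommGroup V] [Finite V] (h2 : ∀ v : V, v + v = 0)
    {T : Type*} [Group T] [DistribMulAction T V] (hT : IsPGroup 2 T) {U : AddSubgroup V}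
    (hU : ∀ g : T, ∀ v ∈ U, g • v ∈ U) {w : V} (hw : w ∉ U) : ∃ v, v ∉ U ∧ ∀ g : T, g • v + v ∈ U := by
  classical
  let act : MulAction T (V ⧸ U) := {
    smul := fun g => QuotientAddGroup.map U U (DistribSMul.toAddMonoidHom V g) (fun v hv => hU g v hv)
    one_smul := by rintro ⟨v⟩; exact congrArg (QuotientAddGroup.mk) (one_smul T v)
    mul_smul := by rintro g h ⟨v⟩; exact congrArg (QuotientAddGroup.mk) (mul_smul g h v) }
  have hd : 2 ∣ Nat.card (V ⧸ U) := by
    have h3 : addOrderOf (QuotientAddGroup.mk w : V ⧸ U) = 2 := by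
      apply addOrderOf_eq_prime
      · rw [two_nsmul, ← QuotientAddGroup.mk_add, h2, QuotientAddGroup.mk_zero]
      · rw [Ne, QuotientAddGroup.eq_zero_iff]; exact hw
    rw [← h3]; exact addOrderOf_dvd_natCard _
  have h0 : (0 : V ⧸ U) ∈ MulAction.fixedPoints T (V ⧸ U) := by
    intro g
    exact map_zero (QuotientAddGroup.map U U (DistribSMul.toAddMonoidHom V g) (fun v hv => hU g v hv))
  have : Fact (Nat.Prime 2) := ⟨Nat.prime_two⟩
  obtain ⟨b, hb, hb0⟩ := hT.exists_fixed_point_of_prime_dvd_card_of_fixed_point (V ⧸ U) hd h0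
  obtain ⟨v, rfl⟩ := QuotientAddGroup.mk_surjective b
  refine ⟨v, fun h => hb0 ((QuotientAddGroup.eq_zero_iff v).2 h).symm, fun g => ?_⟩
  have h4 : (QuotientAddGroup.mk (g • v) : V ⧸ U) = QuotientAddGroup.mk v := hb g
  rw [← QuotientAddGroup.eq_zero_iff, QuotientAddGroup.mk_add, h4, ← QuotientAddGroup.mk_add, h2,
    QuotientAddGroup.mk_zero]

/-! ### invariant subgroups -/

variable {H : Subgroup SL}

/-- invariance under the stabiliser of `u2` -/
def Inv (H : Subgroup SL) (U : AddSubgroup W) : Prop := ∀ A ∈ H, A • u2 = u2 → ∀ v ∈ U, A • v ∈ U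

theorem u2_zero {l : Fin 6} (h0 : l ≠ 0) (h1 : l ≠ 1) : u2 l = 0 := by
  revert h0 h1; fin_cases l <;> decide

/-- diagonal elements -/
theorem exists_diag2 (h : LinFrame F4 H) {i j : Fin 6} (hij : i ≠ j) (hi : i ≠ 0 ∧ i ≠ 1) (hj : j ≠ 0 ∧ j ≠ 1) :
    ∃ A ∈ H, A • u2 = u2 ∧ ∀ (v : W) (l : Fin 6),
      (A • v) l = (if l = i then F4.w else if l = j then F4.v else F4.o) * v l := by
  classical
  obtain ⟨A, hA, hAv⟩ := mono' h (s := 1) (d := fun l => if l = i then F4.w else if l = j then F4.v else F4.o)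
    (Equiv.Perm.sign_one) (by
      intro l
      split_ifs <;> decide) (by
      have : (fun l : Fin 6 => if l = i then F4.w else if l = j then F4.v else F4.o) =
          fun l => (if l = i then F4.w else F4.o) * (if l = j then F4.v else F4.o) := by
        funext l
        by_cases h1 : l = i
        · subst h1
          rw [if_pos rfl, if_pos rfl, if_neg hij]; rfl
        · rw [if_neg h1, if_neg h1]
          split_ifs <;> rfl
      rw [this, Finset.prod_mul_distrib]
      have h1 : ∏ l : Fin 6, (if l = i then F4.w else F4.o) = F4.w := by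
        have := Finset.prod_ite_eq' Finset.univ i (fun _ => F4.w)
        rw [if_pos (Finset.mem_univ i)] at this
        exact this
      have h2 : ∏ l : Fin 6, (if l = j then F4.v else F4.o) = F4.v := by
        have := Finset.prod_ite_eq' Finset.univ j (fun _ => F4.v)
        rw [if_pos (Finset.mem_univ j)] at this
        exact this
      rw [h1, h2]
      rfl)
  refine ⟨A, hA, ?_, fun v l => hAv v l⟩
  funext l
  rw [hAv]
  show (if l = i then F4.w else if l = j then F4.v else F4.o) * u2 l = u2 l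
  by_cases h1 : l = i
  · subst h1
    rw [u2_zero hi.1 hi.2, mul_zero]
  · rw [if_neg h1]
    by_cases h2 : l = j
    · subst h2
      rw [u2_zero hj.1 hj.2, mul_zero]
    · rw [if_neg h2]
      exact one_mul _

/-- 3-cycles -/
theorem exists_cyc (h : LinFrame F4 H) {i j k : Fin 6} (hij : i ≠ j) (hik : i ≠ k) (hjk : j ≠ k)
    (hi : i ≠ 0 ∧ i ≠ 1) (hj : j ≠ 0 ∧ j ≠ 1) (hk : k ≠ 0 ∧ k ≠ 1) :
    ∃ A ∈ H, A • u2 = u2 ∧ ∀ c : F4, A • (c • e i) = c • e k := by
  classical
  obtain ⟨A, hA, hAv⟩ := mono' h (s := Equiv.swap i j * Equiv.swap i k) (d := fun _ => 1)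
    (by rw [Equiv.Perm.sign_mul, Equiv.Perm.sign_swap hij, Equiv.Perm.sign_swap hik]; rfl)
    (fun _ => one_ne_zero) (by simp)
  have hs : (Equiv.swap i j * Equiv.swap i k)⁻¹ = Equiv.swap i k * Equiv.swap i j := by
    rw [mul_inv_rev, Equiv.swap_inv, Equiv.swap_inv]
  refine ⟨A, hA, ?_, fun c => ?_⟩
  · funext l
    rw [hAv, one_mul, hs, Equiv.Perm.mul_apply]
    by_cases h1 : l = i
    · subst h1
      rw [Equiv.swap_apply_left, Equiv.swap_apply_of_ne_of_ne hij.symm hjk, u2_zero hj.1 hj.2, u2_zero hi.1 hi.2]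
    · by_cases h2 : l = j
      · subst h2
        rw [Equiv.swap_apply_right, Equiv.swap_apply_left, u2_zero hk.1 hk.2, u2_zero hj.1 hj.2]
      · rw [Equiv.swap_apply_of_ne_of_ne h1 h2]
        by_cases h3 : l = k
        · subst h3
          rw [Equiv.swap_apply_right, u2_zero hk.1 hk.2, u2_zero hi.1 hi.2]
        · rw [Equiv.swap_apply_of_ne_of_ne h1 h3]
  · funext l
    rw [hAv, one_mul, hs, Equiv.Perm.mul_apply, Pi.smul_apply, Pi.smul_apply, e_apply, e_apply]
    congr 1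
    have : Equiv.swap i k (Equiv.swap i j l) = i ↔ l = k := by
      rw [← Equiv.eq_symm_apply, Equiv.symm_swap, Equiv.swap_apply_left, ← Equiv.eq_symm_apply, Equiv.symm_swap,
        Equiv.swap_apply_of_ne_of_ne hik.symm hjk.symm]
    simp only [this]

theorem F4_span : ∀ a c : F4, a ≠ 0 → c = 0 ∨ c = a ∨ c = .w * a ∨ c = a + .w * a := by decide

/-- an invariant subgroup with a vector with nonzero coordinate `i ≥ 2` contains `F4 e i` -/
theorem line_mem (h : LinFrame F4 H) {U : AddSubgroup W} (hU : Inv H U) {i j k : Fin 6} (hij : i ≠ j) (hik : i ≠ k)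
    (hjk : j ≠ k) (hi : i ≠ 0 ∧ i ≠ 1) (hj : j ≠ 0 ∧ j ≠ 1) (hk : k ≠ 0 ∧ k ≠ 1) {v : W} (hv : v ∈ U)
    (hvi : v i ≠ 0) (c : F4) : c • e i ∈ U := by
  obtain ⟨A, hA, hA2, hAv⟩ := exists_diag2 h hij hi hj
  obtain ⟨B, hB, hB2, hBv⟩ := exists_diag2 h hik hi hk
  have hy : v + A • v ∈ U := U.add_mem hv (hU A hA hA2 v hv)
  have hy' : (v + A • v) + B • (v + A • v) ∈ U := U.add_mem hy (hU B hB hB2 _ hy)
  have k1 : ∀ x : F4, x + F4.o * x = 0 := by decide
  have k2 : ∀ x : F4, x + F4.w * x = F4.v * x := by decide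
  have e1 : (v + A • v) + B • (v + A • v) = (F4.v * (F4.v * v i)) • e i := by
    funext l
    rw [Pi.add_apply, hBv, Pi.add_apply, hAv, Pi.smul_apply, e_apply, smul_eq_mul]
    by_cases h1 : l = i
    · subst h1
      rw [if_pos rfl, if_pos rfl, if_pos rfl, mul_one, k2, k2]
    · rw [if_neg h1, if_neg h1, if_neg h1, mul_zero]
      by_cases h2 : l = j
      · subst h2
        rw [if_pos rfl, if_neg hjk, k1]
      · rw [if_neg h2, k1]
        rw [mul_zero, add_zero]
  rw [e1] at hy'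
  generalize ha : F4.v * (F4.v * v i) = a at hy'
  have ha0 : a ≠ 0 := by
    rw [← ha]
    exact mul_ne_zero (by decide) (mul_ne_zero (by decide) hvi)
  have hwa : (F4.w * a) • e i ∈ U := by
    have h3 := hU A hA hA2 _ hy'
    have h4 : A • (a • e i) = (F4.w * a) • e i := by
      funext l
      rw [hAv, Pi.smul_apply, Pi.smul_apply, e_apply, smul_eq_mul, smul_eq_mul]
      by_cases h1 : l = i
      · rw [if_pos h1, if_pos h1, mul_one, mul_one]
      · rw [if_neg h1, if_neg h1, mul_zero, mul_zero, mul_zero]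
    rwa [h4] at h3
  rcases F4_span a c ha0 with h3 | h3 | h3 | h3
  · rw [h3, zero_smul]; exact U.zero_mem
  · rw [h3]; exact hy'
  · rw [h3]; exact hwa
  · rw [h3, add_smul]; exact U.add_mem hy' hwa

/-- **a `J`-invariant additive subgroup lies in `⟨e 0, e 1⟩` or contains `⟨e 2, ..., e 5⟩`** -/
theorem dich (h : LinFrame F4 H) {U : AddSubgroup W} (hU : Inv H U) :
    (∀ v ∈ U, ∀ i : Fin 6, i ≠ 0 → i ≠ 1 → v i = 0) ∨ (∀ v : W, v 0 = 0 → v 1 = 0 → v ∈ U) := by
  by_cases hcon : ∀ v ∈ U, ∀ i : Fin 6, i ≠ 0 → i ≠ 1 → v i = 0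
  · exact Or.inl hcon
  right
  push Not at hcon
  obtain ⟨v, hv, i, hi0, hi1, hvi⟩ := hcon
  have hex : ∀ i : Fin 6, i ≠ 0 → i ≠ 1 → ∃ j k : Fin 6, i ≠ j ∧ i ≠ k ∧ j ≠ k ∧ (j ≠ 0 ∧ j ≠ 1) ∧ (k ≠ 0 ∧ k ≠ 1) := by
    decide
  have hline : ∀ l : Fin 6, l ≠ 0 → l ≠ 1 → ∀ c : F4, c • e l ∈ U := by
    intro l hl0 hl1 c
    by_cases hil : i = l
    · subst hil
      obtain ⟨j, k, h1, h2, h3, h4, h5⟩ := hex i hi0 hi1
      exact line_mem h hU h1 h2 h3 ⟨hi0, hi1⟩ h4 h5 hv hvi c
    · have hex2 : ∀ i l : Fin 6, i ≠ 0 → i ≠ 1 → l ≠ 0 → l ≠ 1 → i ≠ l → ∃ j : Fin 6, i ≠ j ∧ j ≠ l ∧ (j ≠ 0 ∧ j ≠ 1) := by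
        decide
      obtain ⟨j, h1, h2, h3⟩ := hex2 i l hi0 hi1 hl0 hl1 hil
      have h4 := line_mem h hU h1 hil h2 ⟨hi0, hi1⟩ h3 ⟨hl0, hl1⟩ hv hvi c
      obtain ⟨A, hA, hA2, hAc⟩ := exists_cyc h h1 hil h2 ⟨hi0, hi1⟩ h3 ⟨hl0, hl1⟩
      have h5 := hU A hA hA2 _ h4
      rwa [hAc] at h5
  intro w hw0 hw1
  rw [eq_sum w]
  refine U.sum_mem fun l _ => ?_
  by_cases hl0 : l = 0
  · subst hl0; rw [hw0, zero_smul]; exact U.zero_mem
  · by_cases hl1 : l = 1
    · subst hl1; rw [hw1, zero_smul]; exact U.zero_mem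
    · exact hline l hl0 hl1 _

/-! ### the 2-group -/

/-- the hypotheses on the 2-group -/
structure Oh (H : Subgroup SL) (T : Type*) [Group T] [DistribMulAction T W] : Prop where
  two : IsPGroup 2 T
  fix : ∀ g : T, g • u2 = u2
  norm : ∀ A ∈ H, A • u2 = u2 → ∀ g : T, ∃ g' : T, ∀ v : W, g • (A • v) = A • (g' • v)
  kind : ∀ g : T, ((∀ (a : F4) (v : W), g • (a • v) = a • (g • v)) ∧
      ∀ u v : W, herm (g • u) (g • v) = herm u v) ∨ (∀ (a : F4) (v : W), g • (a • v) = cj a • (g • v))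
  isR : ∀ (g : T) (v : W), IsR v → IsR (g • v)

variable {T : Type*} [Group T] [DistribMulAction T W]

/-- invariant subgroups of `⟨e 0, e 1⟩` -/
def Good (H : Subgroup SL) (T : Type*) [Group T] [DistribMulAction T W] (U : AddSubgroup W) : Prop :=
  (∀ v ∈ U, ∀ i : Fin 6, i ≠ 0 → i ≠ 1 → v i = 0) ∧ Inv H U ∧ ∀ g : T, ∀ v ∈ U, g • v ∈ U

theorem Oh.coord (O : Oh H T) (h : LinFrame F4 H) (g : T) {v : W} (h0 : v 0 = 0) (h1 : v 1 = 0)
    {i : Fin 6} (hi0 : i ≠ 0) (hi1 : i ≠ 1) : (g • v) i = v i := by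
  classical
  have hbot : Good H T ⊥ := by
    refine ⟨?_, ?_, ?_⟩
    · intro v hv i _ _
      rw [AddSubgroup.mem_bot.1 hv]; rfl
    · intro A _ _ v hv
      rw [AddSubgroup.mem_bot.1 hv, smul_zero]; exact AddSubgroup.zero_mem _
    · intro g v hv
      rw [AddSubgroup.mem_bot.1 hv, smul_zero]; exact AddSubgroup.zero_mem _
  obtain ⟨U, hU, hmax⟩ := (Set.toFinite {U : AddSubgroup W | Good H T U}).exists_maximal ⟨⊥, hbot⟩
  obtain ⟨hUP, hUJ, hUT⟩ := hU
  have hne : e 2 ∉ U := by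
    intro h2
    have := hUP _ h2 2 (by decide) (by decide)
    rw [e_apply] at this
    exact absurd this (by decide)
  obtain ⟨w, hwU, hw⟩ := exists_fix_mod W_add_self O.two hUT hne
  let X : AddSubgroup W :=
    { carrier := {v | ∀ g : T, g • v + v ∈ U}
      zero_mem' := fun g => by rw [smul_zero, add_zero]; exact U.zero_mem
      add_mem' := by
        intro x y hx hy g
        rw [smul_add, add_add_add_comm]
        exact U.add_mem (hx g) (hy g)
      neg_mem' := by
        intro x hx g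
        show g • (-x) + -x ∈ U
        rw [smul_neg, ← neg_add]
        exact U.neg_mem (hx g) }
  have hX : ∀ {v : W}, v ∈ X ↔ ∀ g : T, g • v + v ∈ U := Iff.rfl
  have hXJ : Inv H X := by
    intro A hA hA2 v hv g
    obtain ⟨g', hgg⟩ := O.norm A hA hA2 g
    rw [hgg, ← smul_add]
    exact hUJ A hA hA2 _ (hv g')
  have hXT : ∀ g : T, ∀ v ∈ X, g • v ∈ X := by
    intro g₀ v hv g
    have e1 : g • g₀ • v + g₀ • v = (g • (g₀ • v + v) + (g₀ • v + v)) + (g • v + v) := by
      have h3 := W_add_self (g • v)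
      have h4 := W_add_self v
      rw [smul_add]
      have e2 : g • g₀ • v + g • v + (g₀ • v + v) + (g • v + v) =
          g • g₀ • v + g₀ • v + (g • v + g • v) + (v + v) := by abel
      rw [e2, h3, h4, add_zero, add_zero]
    rw [e1]
    exact U.add_mem (U.add_mem (hUT g _ (hv g₀)) (hv g₀)) (hv g)
  have hUX : U ≤ X := fun v hv g => U.add_mem (hUT g v hv) hv
  rcases dich h hXJ with h2 | h2
  · exfalso
    have hXU : X ≤ U := hmax ⟨h2, hXJ, hXT⟩ hUX
    exact hwU (hXU (hX.2 hw))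
  · have h3 := hUP _ (hX.1 (h2 v h0 h1) g) i hi0 hi1
    rw [Pi.add_apply] at h3
    have h4 : (g • v) i + v i + v i = 0 + v i := by rw [h3]
    rwa [add_assoc, add_self, add_zero, zero_add] at h4

/-- **the theorem** -/
theorem Oh.main (O : Oh H T) (h : Std H) (t : T) :
    (∀ v : W, t • v = v) ∨ (∀ v : W, t • v = tau u2 v) := by
  let g : W →+ W := DistribSMul.toAddMonoidHom W t
  have hco : ∀ {v : W}, v 0 = 0 → v 1 = 0 → ∀ {i : Fin 6}, i ≠ 0 → i ≠ 1 → g v i = v i :=
    fun h0 h1 _ hi0 hi1 => O.coord h.fr t h0 h1 hi0 hi1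
  have hlin : (∀ (a : F4) (v : W), g (a • v) = a • g v) ∧ ∀ u v, herm (g u) (g v) = herm u v := by
    rcases O.kind t with h1 | h1
    · exact h1
    · exfalso
      have h2 := hco (v := e 2) rfl rfl (i := 2) (by decide) (by decide)
      have h3 := hco (v := F4.w • e 2) rfl rfl (i := 2) (by decide) (by decide)
      have h1' : g (F4.w • e 2) = cj F4.w • g (e 2) := h1 _ _
      rw [h1', Pi.smul_apply, h2, Pi.smul_apply] at h3
      exact absurd h3 (by decide)
  have S : Sig g := ⟨map_add g, hlin.1, hlin.2, O.isR t⟩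
  -- `g` fixes `e j`, `j ≥ 2`
  have hsupp : ∀ {j : Fin 6}, j ≠ 0 → j ≠ 1 → ∀ l : Fin 6, l ≠ 0 → l ≠ 1 → g (e j) l = e j l := by
    intro j hj0 hj1 l hl0 hl1
    exact hco (by rw [e_apply, if_neg hj0.symm]) (by rw [e_apply, if_neg hj1.symm]) hl0 hl1
  have hpr : ∀ i j : Fin 6, i ≠ j → (i ≠ 0 ∧ i ≠ 1) → (j ≠ 0 ∧ j ≠ 1) → ∀ a : F4, a ≠ 0 →
      g (e i) 0 + a * g (e j) 0 = 0 ∧ g (e i) 1 + a * g (e j) 1 = 0 := by
    intro i j hij hi hj a ha
    have h1 : IsR (g (pr2 i j a)) := O.isR t _ (isR_pr2 hij ha)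
    have h2 : g (pr2 i j a) = g (e i) + a • g (e j) := by
      unfold pr2
      rw [map_add, hlin.1]
    rw [h2] at h1
    have hi' : (g (e i) + a • g (e j)) i ≠ 0 := by
      rw [Pi.add_apply, Pi.smul_apply, hsupp hi.1 hi.2 i hi.1 hi.2, hsupp hj.1 hj.2 i hi.1 hi.2, e_apply, e_apply,
        if_pos rfl, if_neg hij]
      rw [smul_zero, add_zero]
      exact one_ne_zero
    have hj' : (g (e i) + a • g (e j)) j ≠ 0 := by
      rw [Pi.add_apply, Pi.smul_apply, hsupp hi.1 hi.2 j hj.1 hj.2, hsupp hj.1 hj.2 j hj.1 hj.2, e_apply, e_apply,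
        if_neg hij.symm, if_pos rfl, zero_add, smul_eq_mul, mul_one]
      exact ha
    have h4 : ∃ l : Fin 6, l ≠ 0 ∧ l ≠ 1 ∧ l ≠ i ∧ l ≠ j := by
      have : ∀ i j : Fin 6, ∃ l : Fin 6, l ≠ 0 ∧ l ≠ 1 ∧ l ≠ i ∧ l ≠ j := by decide
      exact this i j
    obtain ⟨l, hl0, hl1, hli, hlj⟩ := h4
    have h5 : wt (g (e i) + a • g (e j)) = 2 := by
      rcases h1 with h1 | ⟨h1, -⟩
      · exact h1
      · exfalso
        apply wt_eq_six.1 h1 l
        rw [Pi.add_apply, Pi.smul_apply, hsupp hi.1 hi.2 l hl0 hl1, hsupp hj.1 hj.2 l hl0 hl1, e_apply, e_apply,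
          if_neg hli, if_neg hlj, smul_zero, add_zero]
    have h6 : supp (g (e i) + a • g (e j)) = {i, j} := by
      symm
      apply Finset.eq_of_subset_of_card_le
      · intro x hx
        rw [Finset.mem_insert, Finset.mem_singleton] at hx
        rw [mem_supp]
        rcases hx with rfl | rfl
        · exact hi'
        · exact hj'
      · rw [card_supp, h5, Finset.card_pair hij]
    have h7 : ∀ l : Fin 6, l ≠ i → l ≠ j → g (e i) l + a * g (e j) l = 0 := by
      intro l hl1 hl2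
      have h8 : l ∉ supp (g (e i) + a • g (e j)) := by
        rw [h6, Finset.mem_insert, Finset.mem_singleton]
        tauto
      rw [mem_supp, not_not] at h8
      exact h8
    exact ⟨h7 0 hi.1.symm hj.1.symm, h7 1 hi.2.symm hj.2.symm⟩
  have hfix : ∀ i j : Fin 6, i ≠ j → (i ≠ 0 ∧ i ≠ 1) → (j ≠ 0 ∧ j ≠ 1) → g (e j) = e j := by
    intro i j hij hi hj
    obtain ⟨h1, h2⟩ := hpr i j hij hi hj .o (by decide)
    obtain ⟨h3, h4⟩ := hpr i j hij hi hj .w (by decide)
    have key : ∀ x y : F4, x + F4.o * y = 0 → x + F4.w * y = 0 → y = 0 := by decide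
    have h5 := key _ _ h1 h3
    have h6 := key _ _ h2 h4
    funext l
    by_cases hl0 : l = 0
    · subst hl0; rw [h5, e_apply, if_neg hj.1.symm]
    · by_cases hl1 : l = 1
      · subst hl1; rw [h6, e_apply, if_neg hj.2.symm]
      · exact hsupp hj.1 hj.2 l hl0 hl1
  have e2 := hfix 3 2 (by decide) (by decide) (by decide)
  have e3 := hfix 2 3 (by decide) (by decide) (by decide)
  have e4 := hfix 5 4 (by decide) (by decide) (by decide)
  have e5 := hfix 4 5 (by decide) (by decide) (by decide)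
  have h1 : g u2 = u2 := O.fix t
  set y : W := g (e 0) with hy
  have hperp : ∀ j, j ≠ 0 → g (e j) = e j → y j = 0 := by
    intro j hj hfj
    rw [← herm_e y j, hy]
    conv_lhs => rw [← hfj]
    rw [hlin.2, herm_e, e_apply, if_neg hj]
  have y2 := hperp 2 (by decide) e2
  have y3 := hperp 3 (by decide) e3
  have y4 := hperp 4 (by decide) e4
  have y5 := hperp 5 (by decide) e5
  have y01 : y 0 + y 1 = 1 := by
    rw [← herm_u2, hy]
    conv_lhs => rw [← h1]
    rw [hlin.2, herm_u2]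
    rfl
  have yn : y 0 * cj (y 0) + y 1 * cj (y 1) = 1 := by
    have h3 : herm y y = herm (e 0) (e 0) := hlin.2 _ _
    rw [herm_eq y y, y2, y3, y4, y5, herm_e] at h3
    simp only [zero_mul, add_zero] at h3
    exact h3
  have key : ∀ a b : F4, a + b = 1 → a * cj a + b * cj b = 1 → (a = 1 ∧ b = 0) ∨ (a = 0 ∧ b = 1) := by
    decide
  have u2e : u2 = e 0 + e 1 := by
    funext i; fin_cases i <;> rfl
  have e1y : g (e 1) = u2 + y := by
    have h3 : g (u2 + e 0) = u2 + y := by rw [map_add, h1]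
    rw [← h3]
    congr 1
    rw [u2e, add_right_comm, W_add_self, zero_add]
  rcases key _ _ y01 yn with ⟨y0, y1⟩ | ⟨y0, y1⟩
  · left
    have hy0 : y = e 0 := by
      funext i
      fin_cases i
      · exact y0
      · exact y1
      · exact y2
      · exact y3
      · exact y4
      · exact y5
    have hy1 : g (e 1) = e 1 := by
      rw [e1y, hy0, u2e, add_right_comm, W_add_self, zero_add]
    intro v
    show g v = v
    rw [S.sum v]
    conv_rhs => rw [eq_sum v]
    refine Finset.sum_congr rfl fun j _ => ?_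
    congr 1
    fin_cases j
    · exact hy0
    · exact hy1
    · exact e2
    · exact e3
    · exact e4
    · exact e5
  · right
    have hy0 : y = e 1 := by
      funext i
      fin_cases i
      · exact y0
      · exact y1
      · exact y2
      · exact y3
      · exact y4
      · exact y5
    have hy1 : g (e 1) = e 0 := by
      rw [e1y, hy0, u2e, add_assoc, W_add_self, add_zero]
    intro v
    show g v = tau u2 v
    rw [S.sum v, (sig_tau h isR_u2).sum v]
    refine Finset.sum_congr rfl fun j _ => ?_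
    congr 1
    have t0 : tau u2 (e 0) = e 1 := by
      rw [tau_u2]; funext i; fin_cases i <;> rfl
    have t1 : tau u2 (e 1) = e 0 := by
      rw [tau_u2]; funext i; fin_cases i <;> rfl
    have tj : ∀ j : Fin 6, j ≠ 0 → j ≠ 1 → tau u2 (e j) = e j := by
      intro j hj0 hj1
      apply tau_of_perp
      rw [herm_u2, e_apply, e_apply, if_neg hj0.symm, if_neg hj1.symm, add_zero]
    fin_cases j
    · exact hy0.trans t0.symm
    · exact hy1.trans t1.symm
    · exact e2.trans (tj 2 (by decide) (by decide)).symm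
    · exact e3.trans (tj 3 (by decide) (by decide)).symm
    · exact e4.trans (tj 4 (by decide) (by decide)).symm
    · exact e5.trans (tj 5 (by decide) (by decide)).symm

end Cfsg.Agent.Omega.EH3.UFour.Mod
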